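import Mathlib

/-!
Semisimple parts of matrices lie in the closure of the conjugation orbit; semisimple matrices with the
same characteristic polynomial over an algebraically closed field are conjugate.
-/

set_option autoImplicit false
universe u

namespace Groth.Agent.SSClosure

variable {k : Type u} [Field k] {V : Type*} [AddCommGroup V] [Module k V]

/-- A complete system of orthogonal projectors commuting with `S` along which `N` is strictly triangular. -/
theorem exists_projectors {S N : Module.End k V} (hS : S.IsSemisimple) (hN : IsNilpotent N) (hc : Commute S N) :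
    ∃ (m : ℕ) (π : Fin m → Module.End k V), ∑ i, π i = 1 ∧ (∀ i, π i * π i = π i) ∧
      (∀ i j, i ≠ j → π i * π j = 0) ∧ (∀ i, Commute S (π i)) ∧ ∀ i j, j ≤ i → π i * N * π j = 0 := by
  obtain ⟨m, hm⟩ := hN
  let K : ℕ → Submodule k V := fun j => LinearMap.ker (N ^ j)
  have hKmono : ∀ {a b : ℕ}, a ≤ b → K a ≤ K b := by
    intro a b h x hx
    obtain ⟨c, rfl⟩ := Nat.exists_eq_add_of_le h
    change (N ^ (a + c)) x = 0
    rw [add_comm, pow_add, Module.End.mul_apply, show (N ^ a) x = 0 from hx, map_zero]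
  have hKinv : ∀ j, K j ∈ Module.End.invtSubmodule S := by
    intro j x hx
    change (N ^ j) (S x) = 0
    rw [← Module.End.mul_apply, ((hc.pow_right j).symm).eq, Module.End.mul_apply,
      show (N ^ j) x = 0 from hx, map_zero]
  choose C hC hcompl using fun j => Module.End.isSemisimple_iff.1 hS (K j) (hKinv j)
  let P : ℕ → Module.End k V := fun j => Submodule.projection (K j) (C j) (hcompl j)
  have hPim : ∀ j x, P j x ∈ K j := fun j x => Submodule.projection_apply_mem _ x
  have hPfix : ∀ j x, x ∈ K j → P j x = x := fun j x hx => Submodule.projection_apply_left (hcompl j) ⟨x, hx⟩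
  have hPC : ∀ j x, x ∈ C j → P j x = 0 := fun j x hx => Submodule.projection_apply_right (hcompl j) ⟨x, hx⟩
  have hPS : ∀ j, Commute S (P j) := by
    intro j
    ext x
    obtain ⟨a, ha, c, hc', rfl⟩ := Submodule.mem_sup.1 ((hcompl j).sup_eq_top ▸ Submodule.mem_top (x := x) :
      x ∈ K j ⊔ C j)
    simp only [Module.End.mul_apply, map_add, hPfix j a ha, hPC j c hc', hPfix j _ (hKinv j ha),
      hPC j _ (hC j hc'), map_zero]
  let R : ℕ → Module.End k V := fun d => Nat.rec (motive := fun _ => Module.End k V) 1 (fun e r => P (m - (e + 1)) * r) d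
  have hRim : ∀ d x, R d x ∈ K (m - d) := by
    intro d x
    cases d with
    | zero => change (N ^ m) _ = 0; rw [hm]; rfl
    | succ e => exact hPim _ _
  have hRfix : ∀ d x, x ∈ K (m - d) → R d x = x := by
    intro d
    induction d with
    | zero => intro x _; rfl
    | succ e ih =>
      intro x hx
      show P (m - (e + 1)) (R e x) = x
      rw [ih x (hKmono (by omega) hx), hPfix _ x hx]
  have hR1 : ∀ a b, a ≤ b → R a * R b = R b := by
    intro a b h
    ext x
    exact hRfix a _ (hKmono (by omega) (hRim b x))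
  have hR2 : ∀ a b, a ≤ b → R b * R a = R b := by
    intro a b h
    induction h with
    | refl => exact hR1 a a le_rfl
    | step _ ih => show P _ * R _ * R a = P _ * R _; rw [mul_assoc, ih]
  have hRS : ∀ d, Commute S (R d) := by
    intro d
    induction d with
    | zero => exact Commute.one_right S
    | succ e ih => exact (hPS _).mul_right ih
  let π : Fin m → Module.End k V := fun i => R (m - (i + 1)) - R (m - i)
  refine ⟨m, π, ?_, ?_, ?_, fun i => (hRS _).sub_right (hRS _), ?_⟩
  · have h := Finset.sum_range_sub (fun i => R (m - i)) m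
    rw [Fin.sum_univ_eq_sum_range (fun i => R (m - (i + 1)) - R (m - i)), h]
    have hRm : R m = 0 := by
      ext x
      have := hRim m x
      rw [Nat.sub_self] at this
      simpa [K] using this
    simp only [Nat.sub_self, Nat.sub_zero, hRm]
    exact sub_zero _
  · intro i
    simp only [π, mul_sub, sub_mul, hR1 _ _ (le_refl _), hR1 _ _ (show m - ((i : ℕ) + 1) ≤ m - i by omega),
      hR2 _ _ (show m - ((i : ℕ) + 1) ≤ m - i by omega)]
    abel
  · intro i j hij
    rcases lt_or_gt_of_ne (fun h => hij (Fin.ext h) : (i : ℕ) ≠ j) with h | h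
    · simp only [π, mul_sub, sub_mul]
      rw [hR2 (m - ((j : ℕ) + 1)) (m - ((i : ℕ) + 1)) (by omega), hR2 (m - ((j : ℕ) + 1)) (m - (i : ℕ)) (by omega),
        hR2 (m - (j : ℕ)) (m - ((i : ℕ) + 1)) (by omega), hR2 (m - (j : ℕ)) (m - (i : ℕ)) (by omega)]
      abel
    · simp only [π, mul_sub, sub_mul]
      rw [hR1 (m - ((i : ℕ) + 1)) (m - ((j : ℕ) + 1)) (by omega), hR1 (m - (i : ℕ)) (m - ((j : ℕ) + 1)) (by omega),
        hR1 (m - ((i : ℕ) + 1)) (m - (j : ℕ)) (by omega), hR1 (m - (i : ℕ)) (m - (j : ℕ)) (by omega)]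
      abel
  · intro i j hji
    ext x
    have h1 : π j x ∈ K (j + 1) := by
      refine Submodule.sub_mem _ ?_ ?_
      · exact hKmono (by omega) (hRim _ x)
      · exact hKmono (by omega) (hRim _ x)
    have h2 : N (π j x) ∈ K j := by
      change (N ^ ((j : ℕ) + 1)) (π j x) = 0 at h1
      rw [pow_succ, Module.End.mul_apply] at h1
      exact h1
    show R _ (N (π j x)) - R _ (N (π j x)) = 0
    rw [hRfix _ _ (hKmono (by omega) h2), hRfix _ _ (hKmono (by omega) h2), sub_self]

open Polynomial in
/-- A curve of conjugates of `S + N` degenerating to `S`. -/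
theorem exists_curve {n : ℕ} (S N : Matrix (Fin n) (Fin n) k) (hS : Module.End.IsSemisimple (Matrix.toLin' S))
    (hN : IsNilpotent N) (hc : Commute S N) :
    ∃ M : Matrix (Fin n) (Fin n) k[X], M.map (Polynomial.eval 0) = S ∧
      ∀ t : k, t ≠ 0 → ∃ A : Matrix (Fin n) (Fin n) k, IsUnit A.det ∧ A * (S + N) * A⁻¹ = M.map (Polynomial.eval t) := by
  classical
  let φ : Matrix (Fin n) (Fin n) k ≃ₐ[k] Module.End k (Fin n → k) := Matrix.toLinAlgEquiv'
  obtain ⟨m, π, hsum, hidem, hort, hcomm, htri⟩ :=
    exists_projectors (S := φ S) (N := φ N) hS (hN.map φ) (hc.map φ)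
  let q : Fin m → Matrix (Fin n) (Fin n) k := fun i => φ.symm (π i)
  have qsum : ∑ i, q i = 1 := by simp only [q, ← map_sum, hsum, map_one]
  have qidem : ∀ i, q i * q i = q i := fun i => by simp only [q, ← map_mul, hidem]
  have qort : ∀ i j, i ≠ j → q i * q j = 0 := fun i j h => by simp only [q, ← map_mul, hort i j h, map_zero]
  have qcomm : ∀ i, S * q i = q i * S := fun i => φ.injective (by simpa [q] using (hcomm i).eq)
  have qtri : ∀ i j, j ≤ i → q i * N * q j = 0 := fun i j h => φ.injective (by simpa [q] using htri i j h)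
  let M : Matrix (Fin n) (Fin n) k[X] := S.map Polynomial.C +
    ∑ i : Fin m, ∑ j : Fin m, (X ^ ((j : ℕ) - i) : k[X]) • (if i < j then q i * N * q j else 0).map Polynomial.C
  have hM : ∀ t : k, M.map (Polynomial.eval t) =
      S + ∑ i : Fin m, ∑ j : Fin m, t ^ ((j : ℕ) - i) • (if i < j then q i * N * q j else 0) := by
    intro t
    ext a b
    simp [M, Matrix.sum_apply, Polynomial.eval_finsetSum]
    refine Finset.sum_congr rfl fun i _ => Finset.sum_congr rfl fun j _ => ?_
    split_ifs <;> simp [mul_comm]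
  refine ⟨M, ?_, ?_⟩
  · rw [hM, add_eq_left]
    refine Finset.sum_eq_zero fun i _ => Finset.sum_eq_zero fun j _ => ?_
    split_ifs with h
    · rw [zero_pow (Nat.sub_ne_zero_of_lt h), zero_smul]
    · rw [smul_zero]
  intro t ht
  have hmul : ∀ u v : k, (∑ i : Fin m, u ^ (i : ℕ) • q i) * ∑ i : Fin m, v ^ (i : ℕ) • q i =
      ∑ i : Fin m, (u * v) ^ (i : ℕ) • q i := by
    intro u v
    rw [Finset.sum_mul_sum]
    refine Finset.sum_congr rfl fun i _ => ?_
    rw [Finset.sum_eq_single i]
    · rw [smul_mul_smul_comm, qidem, mul_pow]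
    · intro j _ hj; rw [smul_mul_smul_comm, qort i j (Ne.symm hj), smul_zero]
    · simp
  let A := ∑ i : Fin m, t⁻¹ ^ (i : ℕ) • q i
  let A' := ∑ i : Fin m, t ^ (i : ℕ) • q i
  have hAA' : A * A' = 1 := by
    rw [hmul, inv_mul_cancel₀ ht]; simp [qsum]
  have hinv : A⁻¹ = A' := Matrix.inv_eq_right_inv hAA'
  refine ⟨A, Matrix.isUnit_det_of_right_inverse hAA', ?_⟩
  rw [hinv, hM, mul_add, add_mul]
  congr 1
  · have : A * S = S * A := by
      simp only [A, Finset.sum_mul, Finset.mul_sum, smul_mul_assoc, mul_smul_comm, qcomm]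
    rw [this, mul_assoc, hAA', mul_one]
  · simp only [A, A', Finset.sum_mul, Finset.mul_sum, smul_mul_assoc, mul_smul_comm, Finset.smul_sum, smul_smul]
    rw [Finset.sum_comm]
    refine Finset.sum_congr rfl fun i _ => Finset.sum_congr rfl fun j _ => ?_
    split_ifs with h
    · congr 1
      have hji : (j : ℕ) = ((j : ℕ) - i) + i := by omega
      nth_rewrite 1 [hji]
      rw [pow_add, inv_pow, mul_assoc, mul_inv_cancel₀ (pow_ne_zero _ ht), mul_one]
    · rw [qtri i j (not_lt.1 h), smul_zero, smul_zero]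

/-- The semisimple part lies in the Zariski closure of the conjugation orbit. -/
theorem eval_semisimplePart_eq_zero [Infinite k] {n : ℕ} {B S N : Matrix (Fin n) (Fin n) k}
    (hS : Module.End.IsSemisimple (Matrix.toLin' S)) (hN : IsNilpotent N) (hc : Commute S N) (hB : B = S + N)
    (F : MvPolynomial (Fin n × Fin n) k)
    (hF : ∀ A : Matrix (Fin n) (Fin n) k, IsUnit A.det →
      MvPolynomial.eval (fun p => (A * B * A⁻¹) p.1 p.2) F = 0) :
    MvPolynomial.eval (fun p => S p.1 p.2) F = 0 := by
  subst hB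
  obtain ⟨M, hM0, hM⟩ := exists_curve S N hS hN hc
  let p : Polynomial k := MvPolynomial.aeval (fun x : Fin n × Fin n => M x.1 x.2) F
  have hev : ∀ t, p.eval t = MvPolynomial.eval (fun x => M.map (Polynomial.eval t) x.1 x.2) F := by
    intro t
    rw [← Polynomial.coe_aeval_eq_eval, ← AlgHom.comp_apply, MvPolynomial.comp_aeval, MvPolynomial.aeval_eq_eval]
    rfl
  have hp : p = 0 := by
    refine Polynomial.eq_zero_of_infinite_isRoot p ?_
    refine Set.Infinite.mono (s := {t : k | t ≠ 0}) (fun t ht => ?_) ?_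
    · obtain ⟨A, hA, hAeq⟩ := hM t ht
      show p.eval t = 0
      rw [hev, ← hAeq]
      exact hF A hA
    · exact (Set.finite_singleton (0 : k)).infinite_compl
  have := hev 0
  rw [hp, Polynomial.eval_zero, hM0] at this
  exact this.symm

/-- Semisimple matrices with the same characteristic polynomial are conjugate. -/
theorem exists_conj_of_charpoly_eq [IsAlgClosed k] {n : ℕ} {S₁ S₂ : Matrix (Fin n) (Fin n) k}
    (h₁ : Module.End.IsSemisimple (Matrix.toLin' S₁)) (h₂ : Module.End.IsSemisimple (Matrix.toLin' S₂))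
    (h : S₁.charpoly = S₂.charpoly) :
    ∃ A : Matrix (Fin n) (Fin n) k, IsUnit A.det ∧ A * S₁ * A⁻¹ = S₂ := by
  classical
  have key : ∀ S : Matrix (Fin n) (Fin n) k, Module.End.IsSemisimple (Matrix.toLin' S) →
      ∃ (b : Module.Basis (Fin n) k (Fin n → k)) (d : Fin n → k), ∀ i, Matrix.toLin' S (b i) = d i • b i := by
    intro S hS
    let f : Module.End k (Fin n → k) := Matrix.toLin' S
    have hint : DirectSum.IsInternal fun μ : k => f.eigenspace μ :=
      DirectSum.isInternal_submodule_of_iSupIndep_of_iSup_eq_top f.eigenspaces_iSupIndep hS.iSup_eigenspace_eq_top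
    let b' := hint.collectedBasis fun μ => Module.finBasis k (f.eigenspace μ)
    let e := b'.indexEquiv (Pi.basisFun k (Fin n))
    refine ⟨b'.reindex e, fun i => (e.symm i).1, fun i => ?_⟩
    rw [Module.Basis.reindex_apply]
    have hmem : b' (e.symm i) ∈ f.eigenspace (e.symm i).1 := hint.collectedBasis_mem _ _
    exact Module.End.mem_eigenspace_iff.1 hmem
  obtain ⟨b₁, d₁, hb₁⟩ := key S₁ h₁
  obtain ⟨b₂, d₂, hb₂⟩ := key S₂ h₂
  have hcp : ∀ (S : Matrix (Fin n) (Fin n) k) (b : Module.Basis (Fin n) k (Fin n → k)) (d : Fin n → k),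
      (∀ i, Matrix.toLin' S (b i) = d i • b i) → S.charpoly = ∏ i, (Polynomial.X - Polynomial.C (d i)) := by
    intro S b d hb
    have hd : LinearMap.toMatrix b b (Matrix.toLin' S) = Matrix.diagonal d := by
      ext i j
      rw [LinearMap.toMatrix_apply, hb j, map_smul, Module.Basis.repr_self, Matrix.diagonal_apply]
      rcases eq_or_ne i j with rfl | hij
      · simp
      · simp [hij]
    rw [← Matrix.charpoly_diagonal, ← hd, LinearMap.charpoly_toMatrix, ← Matrix.charpoly_toLin']
  have hms : Finset.univ.val.map d₁ = Finset.univ.val.map d₂ := by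
    have h' := (hcp S₁ b₁ d₁ hb₁).symm.trans (h.trans (hcp S₂ b₂ d₂ hb₂))
    have e : ∀ d : Fin n → k, (∏ i, (Polynomial.X - Polynomial.C (d i))).roots = Finset.univ.val.map d := by
      intro d
      rw [Finset.prod_eq_multiset_prod]
      conv_lhs => rw [show Multiset.map (fun i => Polynomial.X - Polynomial.C (d i)) Finset.univ.val =
        (Finset.univ.val.map d).map (fun a => Polynomial.X - Polynomial.C a) from (Multiset.map_map (fun a : k => Polynomial.X - Polynomial.C a) d _).symm]
      exact Polynomial.roots_multiset_prod_X_sub_C _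
    rw [← e, ← e, h']
  have hcard : ∀ a, Fintype.card {i // d₁ i = a} = Fintype.card {i // d₂ i = a} := by
    intro a
    have := congrArg (Multiset.count a) hms
    simp only [Multiset.count_map] at this
    rw [Fintype.card_subtype, Fintype.card_subtype, Finset.card_def, Finset.card_def]
    simpa [Finset.filter_val, eq_comm] using this
  let σ : Fin n ≃ Fin n := Equiv.ofFiberEquiv fun a => Fintype.equivOfCardEq (hcard a)
  have hσ : ∀ i, d₂ (σ i) = d₁ i := fun i => Equiv.ofFiberEquiv_map _ i
  let g : (Fin n → k) ≃ₗ[k] (Fin n → k) := b₁.equiv b₂ σ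
  have hg : ∀ x, Matrix.toLin' S₂ (g x) = g (Matrix.toLin' S₁ x) := by
    suffices (Matrix.toLin' S₂).comp g.toLinearMap = g.toLinearMap.comp (Matrix.toLin' S₁) from
      fun x => LinearMap.congr_fun this x
    refine b₁.ext fun i => ?_
    simp only [LinearMap.comp_apply, LinearEquiv.coe_coe, g, Module.Basis.equiv_apply, hb₁, map_smul, hb₂, hσ]
  let A := LinearMap.toMatrix' g.toLinearMap
  let A' := LinearMap.toMatrix' g.symm.toLinearMap
  have hAA' : A * A' = 1 := by
    rw [← LinearMap.toMatrix'_comp, LinearEquiv.comp_coe, LinearEquiv.symm_trans_self]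
    exact LinearMap.toMatrix'_id
  refine ⟨A, Matrix.isUnit_det_of_right_inverse hAA', ?_⟩
  rw [Matrix.inv_eq_right_inv hAA']
  apply Matrix.toLin'.injective
  apply LinearMap.ext
  intro x
  simp only [Matrix.toLin'_mul, LinearMap.comp_apply, A, A', Matrix.toLin'_toMatrix', LinearEquiv.coe_coe]
  rw [← hg, LinearEquiv.apply_symm_apply]

/-- Polynomials in the entries cutting out a fixed characteristic polynomial. -/
theorem charpoly_eq_of_closure {n : ℕ} {B C : Matrix (Fin n) (Fin n) k}
    (hC : ∀ F : MvPolynomial (Fin n × Fin n) k,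
      (∀ A : Matrix (Fin n) (Fin n) k, IsUnit A.det → MvPolynomial.eval (fun p => (A * B * A⁻¹) p.1 p.2) F = 0) →
      MvPolynomial.eval (fun p => C p.1 p.2) F = 0) :
    C.charpoly = B.charpoly := by
  classical
  have huniv : ∀ (D : Matrix (Fin n) (Fin n) k) (i : ℕ),
      MvPolynomial.eval (fun p => D p.1 p.2) ((Matrix.charpoly.univ k (Fin n)).coeff i) = D.charpoly.coeff i := by
    intro D i
    exact Matrix.charpoly.univ_coeff_eval₂Hom (Fin n) (RingHom.id k) (fun p : Fin n × Fin n => D p.1 p.2) i
  ext i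
  have hinv : ∀ A : Matrix (Fin n) (Fin n) k, IsUnit A.det → (A * B * A⁻¹).charpoly = B.charpoly := by
    intro A hA
    rw [Matrix.charpoly_mul_comm, ← mul_assoc, Matrix.nonsing_inv_mul A hA, one_mul]
  have := hC ((Matrix.charpoly.univ k (Fin n)).coeff i - MvPolynomial.C (B.charpoly.coeff i)) fun A hA => by
    rw [map_sub, MvPolynomial.eval_C, huniv, hinv A hA, sub_self]
  rwa [map_sub, MvPolynomial.eval_C, huniv, sub_eq_zero] at this

end Groth.Agent.SSClosure
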